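import Cfsg.Agent.EqLemmas
import Cfsg.Agent.Lib.FusionTate.Lift
import Cfsg.Agent.Lib.FusionIso.Components
import Cfsg.Agent.Lib.FusionConstrained.NormalSubsystem
import Cfsg.Agent.Lib.Transfer.Residual
import Cfsg.Agent.Lib.PReduced.Tools

/-
The hyperfocal subgroup theorem for finite groups and the `p`-residual subsystem of a group.
Main results: `pResidual_aut_le`, `hyperfocal_group`, `residual_hom_eq`.
-/

set_option autoImplicit false

namespace Cfsg.Agent.FusionHyperfocal

open Cfsg Cfsg.FusionSystem Cfsg.Agent.Fusion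
open scoped commutatorElement

variable {G : Type*} [Group G] [Finite G] {p : ℕ} [Fact p.Prime]

/-- The automorphisms in `O^p(Aut_G(P))` are induced by `O^p(G)`. -/
theorem pResidual_aut_le (S : Sylow p G) {P : Subgroup G} (hP : P ≤ (S : Subgroup G)) :
    (pResidual p ((groupFusionSystem (S : Subgroup G)).autGroup P)).map
      ((groupFusionSystem (S : Subgroup G)).autGroup P).subtype ≤
      autInducedBy (pResidual p G) P := by
  classical
  rw [Subgroup.map_le_iff_le_comap, Cfsg.pResidual, Subgroup.closure_le]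
  intro α hα
  obtain ⟨-, g₀, hg₀⟩ := isMap_group_iff.1 ((mem_autGroup_iff hP).1 α.2)
  let Pr : G → Prop := fun g => g ∈ Subgroup.normalizer (P : Set G)
  let φ : G → MulAut P := fun g => if h : Pr g then Subgroup.normalizerMonoidHom P ⟨g, h⟩ else 1
  have hφapp : ∀ g, Pr g → ∀ x : P, ((φ g x : P) : G) = g * x * g⁻¹ := fun g h x => by
    simp only [φ, dif_pos h]
    rfl
  have hg0 : ∀ x : P, (((α : MulAut P) x : P) : G) = g₀ * x * g₀⁻¹ := fun x => by
    have := (hg₀ x x.2).2
    rwa [autFn_apply _ x.2] at this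
  have hfin : Finite P := inferInstance
  have hPr0 : Pr g₀ :=
    (mem_normalizerIn_of_conj (S := ⊤) (Subgroup.mem_top g₀) fun x hx =>
      hg0 ⟨x, hx⟩ ▸ ((α : MulAut P) ⟨x, hx⟩).2).2
  have hφ0 : φ g₀ = α := MulEquiv.ext fun x => Subtype.ext ((hφapp g₀ hPr0 x).trans (hg0 x).symm)
  have hco : (orderOf (φ g₀)).Coprime p := by
    rw [hφ0, Subgroup.orderOf_coe]
    exact hα
  obtain ⟨g, hgo, hgP, hgα⟩ := FusionConstrained.exists_coprime_rep φ Pr (fun g hg n => by
    refine ⟨pow_mem hg n, ?_⟩
    simp only [φ, Pr, dif_pos hg, dif_pos (pow_mem hg n)]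
    rw [← map_pow]
    rfl) hPr0 hco
  refine mem_autInducedBy_iff.2 ⟨g, Subgroup.subset_closure hgo, fun x => ?_⟩
  show ((((α : (groupFusionSystem (S : Subgroup G)).autGroup P) : MulAut P) x : P) : G) = _
  exact (congrArg (fun a : MulAut P => ((a x : P) : G)) (hgα.trans hφ0).symm).trans
    (hφapp g hgP x)

/-- A `p`-element of a group with `O^p = G` lies in the commutator subgroup. -/
theorem le_commutator_of_pResidual_top (hK : pResidual p G = ⊤) {R : Subgroup G}
    (hR : IsPGroup p R) : R ≤ commutator G := by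
  intro x hx
  have key : ∀ y ∈ pResidual p G, (orderOf (Abelianization.of y)).Coprime p := by
    intro y hy
    induction hy using Subgroup.closure_induction with
    | mem z hz => exact Nat.Coprime.coprime_dvd_left (orderOf_map_dvd _ z) hz
    | one => simp
    | mul a b _ _ ha hb =>
      rw [map_mul]
      exact Nat.Coprime.coprime_dvd_left (Commute.orderOf_mul_dvd_mul_orderOf (Commute.all _ _))
        (Nat.Coprime.mul_left ha hb)
    | inv a _ ha => rw [map_inv, orderOf_inv]; exact ha
  obtain ⟨k, hk⟩ := hR ⟨x, hx⟩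
  have hk' : x ^ p ^ k = 1 := congrArg Subtype.val hk
  have hd : orderOf (Abelianization.of x) ∣ p ^ k :=
    orderOf_dvd_of_pow_eq_one (by rw [← map_pow, hk', map_one])
  have h1 := orderOf_eq_one_iff.1
    (Nat.eq_one_of_dvd_coprimes ((key x (hK ▸ Subgroup.mem_top x)).pow_right k) dvd_rfl hd)
  rwa [← MonoidHom.mem_ker, Abelianization.ker_of] at h1

/-- In a group with `O^p = G` the hyperfocal subgroup is the whole Sylow subgroup. -/
theorem hyperfocal_eq_self (hK : pResidual p G = ⊤) (R : Sylow p G) :
    (groupFusionSystem (R : Subgroup G)).hyperfocalSubgroup p = (R : Subgroup G) := by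
  set F := groupFusionSystem (R : Subgroup G)
  have hRp : IsPGroup p (R : Subgroup G) := R.isPGroup'
  have hfoc : F.focalSubgroup = (R : Subgroup G) := by
    refine le_antisymm (FusionChain.focalSubgroup_le) ?_
    have h := Transfer.focalSubgroup_eq_of_coprime (R : Subgroup G)
      (Transfer.coprime_index_relIndex_sylow R)
    rw [inf_eq_right.2 (le_commutator_of_pResidual_top hK hRp)] at h
    conv_lhs => rw [← h]
    rw [Subgroup.focalSubgroup_def, Subgroup.closure_le]
    rintro _ ⟨hxu, x, hx, u, rfl⟩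
    have hm : ∀ y ∈ Subgroup.zpowers x⁻¹, u * y * u⁻¹ ∈ (R : Subgroup G) := by
      rintro _ ⟨i, rfl⟩
      show u * x⁻¹ ^ i * u⁻¹ ∈ _
      rw [← conj_zpow]
      refine Subgroup.zpow_mem _ ?_ i
      have := Subgroup.mul_mem _ (inv_mem hx) hxu
      simpa [commutatorElement_def, mul_assoc] using this
    have := FusionChain.inv_mul_map_mem_focal (F := F) (f := fun y => u * y * u⁻¹)
      (isMap_group_iff.2 ⟨Subgroup.zpowers_le.2 (inv_mem hx), u, fun y hy => ⟨hm y hy, rfl⟩⟩)
      (Subgroup.mem_zpowers x⁻¹)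
    simpa [commutatorElement_def, mul_assoc] using this
  have hle := FusionNormal.hyperfocal_le (p := p) F
  have hn := FusionTate.hyperfocal_normal (F := F) (p := p)
  set H := (F.hyperfocalSubgroup p).subgroupOf (R : Subgroup G) with hH
  have hsup : H ⊔ commutator (R : Subgroup G) = ⊤ := by
    refine Subgroup.map_injective (R : Subgroup G).subtype_injective ?_
    rw [Subgroup.map_sup, hH, Subgroup.map_subgroupOf_eq_of_le hle,
      ← MonoidHom.range_eq_map, Subgroup.range_subtype,
      ← FusionTate.focal_eq hRp (isSaturated_group R), hfoc]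
  have : Group.IsNilpotent (R : Subgroup G) := hRp.isNilpotent
  have hsolv : Group.IsSolvable ((R : Subgroup G) ⧸ H) := inferInstance
  have htriv : H = ⊤ := by
    by_contra hne
    haveI : Nontrivial ((R : Subgroup G) ⧸ H) := QuotientGroup.nontrivial_iff.2 hne
    refine (Group.IsSolvable.commutator_lt_top_of_nontrivial ((R : Subgroup G) ⧸ H)).ne ?_
    have := congrArg (Subgroup.map (QuotientGroup.mk' H)) hsup
    rw [Subgroup.map_sup, QuotientGroup.map_mk'_self, bot_sup_eq,
      Subgroup.map_top_of_surjective _ (QuotientGroup.mk'_surjective H), commutator_def,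
      Subgroup.map_commutator, Subgroup.map_top_of_surjective _ (QuotientGroup.mk'_surjective H)]
      at this
    rwa [commutator_def]
  exact le_antisymm hle fun x hx => by
    have : (⟨x, hx⟩ : (R : Subgroup G)) ∈ H := htriv ▸ Subgroup.mem_top _
    exact this

section

variable (S : Sylow p G)

theorem residual_sylowIn :
    IsSylowIn p ((S : Subgroup G) ⊓ pResidual p G) (pResidual p G) := by
  have hn : (pResidual p G).Normal := PReduced.pResidual_normal p G
  refine (isSylowIn_iff_exists inf_le_right).2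
    ⟨PReduced.sylowOfSubnormal S hn.isSubnormal, ?_⟩
  rw [PReduced.sylowOfSubnormal_coe, Subgroup.inf_subgroupOf_right]

theorem residual_subsystem :
    (fusionSystemOfSubgroup (pResidual p G) ((S : Subgroup G) ⊓ pResidual p G)
      inf_le_right).IsSubsystemOf (groupFusionSystem (S : Subgroup G)) := by
  rintro P φ ⟨hP, hφ, g, -, hg⟩
  exact ⟨hP.trans inf_le_left, fun x => (hφ x).1, g, hg⟩

/-- **The hyperfocal subgroup theorem.** -/
theorem hyperfocal_group :
    (groupFusionSystem (S : Subgroup G)).hyperfocalSubgroup p =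
      (S : Subgroup G) ⊓ pResidual p G := by
  set K := pResidual p G with hK
  have hn : K.Normal := PReduced.pResidual_normal p G
  refine le_antisymm ?_ ?_
  · rw [FusionSystem.hyperfocalSubgroup, Subgroup.closure_le]
    rintro _ ⟨P, α, x, hP, hα, rfl⟩
    obtain ⟨g, hg, he⟩ := mem_autInducedBy_iff.1 (pResidual_aut_le S hP ⟨α, hα, rfl⟩)
    refine ⟨Subgroup.mul_mem _ (inv_mem (hP x.2)) (hP ((α : MulAut P) x).2), ?_⟩
    show (x : G)⁻¹ * (((α : MulAut P) x : P) : G) ∈ K
    have he' : (((α : MulAut P) x : P) : G) = g * x * g⁻¹ := he x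
    rw [he']
    have := K.mul_mem (hn.conj_mem g hg (x : G)⁻¹) (K.inv_mem hg)
    simpa [mul_assoc] using this
  · obtain ⟨R, hR⟩ := (isSylowIn_iff_exists (A := K) inf_le_right).1 (residual_sylowIn S)
    have h1 := hyperfocal_eq_self (G := K) (Transfer.pResidual_pResidual) R
    rw [hR] at h1
    have h2 := (FusionIso.subgroupIso (inf_le_right : (S : Subgroup G) ⊓ K ≤ K)).im_hyperfocal p
    rw [h1, FusionIso.FIso.im_top] at h2
    exact h2.trans (FusionNormal.hyperfocal_mono (residual_subsystem S) inf_le_left)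

theorem residual_pPowerIndex :
    (fusionSystemOfSubgroup (pResidual p G) ((S : Subgroup G) ⊓ pResidual p G)
      inf_le_right).HasPPowerIndexIn (groupFusionSystem (S : Subgroup G)) p := by
  refine ⟨residual_subsystem S, (hyperfocal_group S).le, fun P hP α hα => ?_⟩
  obtain ⟨g, hg, he⟩ := mem_autInducedBy_iff.1 (pResidual_aut_le S (hP.trans inf_le_left) hα)
  refine (mem_autGroup_iff hP).2 ((isMap_subgroup_iff inf_le_right).2
    ⟨hP, g, hg, fun x hx => ?_⟩)
  refine ⟨?_, by rw [autFn_apply α hx, he]⟩
  rw [← he ⟨x, hx⟩]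
  exact hP (α ⟨x, hx⟩).2

/-- The `p`-residual subsystem of a group is the system of `O^p(G)`. -/
theorem residual_hom_eq
    (E : FusionSystem ((groupFusionSystem (S : Subgroup G)).hyperfocalSubgroup p))
    (hE : (groupFusionSystem (S : Subgroup G)).IsPResidual p E) (P : Subgroup G) :
    E.Hom P = (fusionSystemOfSubgroup (pResidual p G) ((S : Subgroup G) ⊓ pResidual p G)
      inf_le_right).Hom P := by
  have h := hyperfocal_group S
  have hTp : IsPGroup p ((S : Subgroup G) ⊓ pResidual p G : Subgroup G) :=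
    S.isPGroup'.to_le inf_le_left
  refine Set.Subset.antisymm ?_ ?_
  · exact FusionNormal.isSubsystemOf_of_pPowerIndex
      (S.isPGroup'.to_le (FusionNormal.hyperfocal_le _)) hE.1 hE.2.1
      (residual_pPowerIndex S) h.le P
  · exact FusionNormal.isSubsystemOf_of_pPowerIndex hTp
      (FusionIso.isSaturated_subgroup (residual_sylowIn S)) (residual_subsystem S) hE.2 h.ge P

end

end Cfsg.Agent.FusionHyperfocal
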